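import Mathlib
import Groth.Prelude.Def_Flatn
import Groth.Prelude.Def_Mor2
import Groth.Agent.Lib.HomScheme.Rep

/-!
`Mor_S(Z, X)` is representable for `Z` finite locally free and `X` affine over `S`.
-/

universe u

open CategoryTheory Limits AlgebraicGeometry MonoidalCategory CartesianMonoidalCategory

namespace GrothLib.MorS6

variable {Z X S : Scheme.{u}}

/-- The two descriptions of `T ×_S Z`. -/
noncomputable def swapIso (g : Z ⟶ S) (T : Over S) :
    (Over.map g).obj ((Over.pullback g).obj T) ≅ Over.mk g ⊗ T :=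
  Over.isoMk (pullbackSymmetry T.hom g) (by
    show (pullbackSymmetry T.hom g).hom ≫ pullback.fst g T.hom ≫ g = pullback.snd T.hom g ≫ g
    rw [← Category.assoc, pullbackSymmetry_hom_comp_fst])

lemma swapIso_natural (g : Z ⟶ S) {T T' : Over S} (a : T' ⟶ T) :
    (Over.map g).map ((Over.pullback g).map a) ≫ (swapIso g T).hom =
      (swapIso g T').hom ≫ (Over.mk g ◁ a) := by
  refine Over.OverMorphism.ext (pullback.hom_ext ?_ ?_)
  · simp [swapIso]
    rw [pullback.lift_snd]
    erw [Over.whiskerLeft_left_fst, pullbackSymmetry_hom_comp_fst]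
  · simp [swapIso]
    rw [pullback.lift_fst]
    erw [Over.whiskerLeft_left_snd, pullbackSymmetry_hom_comp_snd_assoc]

theorem exists_rep (g : Z ⟶ S) (f : X ⟶ S) (hg : Mor2.IsFinLocFree g) [IsAffineHom f] :
    ∃ W : Over S, IsAffineHom W.hom ∧ Nonempty ((Flatn.morS g f).RepresentableBy W) := by
  obtain ⟨h1, h2, h3⟩ := hg
  have : IsFinite (Over.mk g).hom := h1
  have : Flat (Over.mk g).hom := h2
  have : LocallyOfFinitePresentation (Over.mk g).hom := h3
  have : IsAffineHom (Over.mk f).hom := ‹IsAffineHom f›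
  obtain ⟨M, ev, hM, hMa, -, -⟩ := GrothLib.HomScheme.exists_hom (Over.mk g) (Over.mk f)
  let φ : ∀ {T : Over S}, (T ⟶ M) → (Flatn.morS g f).obj (Opposite.op T) := fun {T} v =>
    (swapIso g T).hom ≫ (Over.mk g ◁ v) ≫ ev
  have hφ : ∀ T : Over S, Function.Bijective (φ (T := T)) := fun T => by
    refine ⟨fun v v' h => (hM T _).unique ((Iso.cancel_iso_hom_left _ _ _).1 h) rfl, fun b => ?_⟩
    obtain ⟨v, hv, -⟩ := hM T ((swapIso g T).inv ≫ b)
    exact ⟨v, by simp only [φ, hv]; exact Iso.hom_inv_id_assoc _ _⟩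
  refine ⟨M, hMa, ⟨{ homEquiv := fun {T} => Equiv.ofBijective _ (hφ T), homEquiv_comp := ?_ }⟩⟩
  intro T T' a v
  show (swapIso g T).hom ≫ (Over.mk g ◁ (a ≫ v)) ≫ ev =
    (Over.map g).map ((Over.pullback g).map a) ≫ (swapIso g T').hom ≫ (Over.mk g ◁ v) ≫ ev
  rw [MonoidalCategory.whiskerLeft_comp, Category.assoc, ← Category.assoc (swapIso g T).hom,
    ← swapIso_natural, Category.assoc]

end GrothLib.MorS6
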